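import Mathlib
import Cfsg.Agent.Lib.Helper95.BRA.Defs
import Cfsg.Agent.Lib.Helper74.JordanB
import Cfsg.Agent.Lib.Helper74.FrobSchur
import Cfsg.Agent.Lib.Helper74.CharSums
import Cfsg.Agent.Lib.Helper3.CharValues

/-!
# Project BRA (S4484), package [Mat]

A unitary matrix representation affording a nonprincipal irreducible character has no nonzero
fixed vector (the averaging operator has trace `0`).
-/

set_option autoImplicit false

open Cfsg
open scoped Matrix ComplexConjugate

namespace Cfsg.Agent.Lib.Helper62.BRA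

universe u

/-- **[Mat]** -/
theorem pkgMat : Cfsg.Agent.Lib.Helper95.BRA.PkgMat.{u} := by
  intro G _ _ χ hχ hne
  classical
  haveI := Fintype.ofFinite G
  have hχc : IsCharacter G χ := Lib.Helper3.isCharacter_of_irr hχ
  obtain ⟨n', ρ, hρ⟩ := hχc
  have hM : ∀ g, χ g = (Lib.Helper74.matHom ρ (Pi.basisFun ℂ (Fin n')) g).trace := fun g => by
    rw [← hρ]; exact Lib.Helper74.character_eq_trace ρ (Pi.basisFun ℂ (Fin n')) g
  obtain ⟨U, hUu, hUtr⟩ := Lib.Helper74.Jordan.exists_unitary_hom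
    (Lib.Helper74.matHom ρ (Pi.basisFun ℂ (Fin n')))
  have hχU : ∀ g, (U g).trace = χ g := fun g => by rw [hM, hUtr]
  refine ⟨n', U, hUu, hχU, ?_⟩
  intro v hv
  have hc : (Nat.card G : ℂ) ≠ 0 := by exact_mod_cast Nat.card_pos.ne'
  -- the sum of `χ` vanishes
  have hsum : ∑ g : G, χ g = 0 := by
    have h := Lib.Helper3.classInner_irr_ne hχ (Lib.Helper74.isIrrCharacter_one (G := G)) hne
    unfold classInner at h
    have h2 := (mul_eq_zero.mp h).resolve_left (inv_ne_zero hc)
    simpa using h2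
  have hSv : (∑ g : G, U g) *ᵥ v = (Nat.card G : ℂ) • v := by
    rw [Matrix.sum_mulVec]
    simp only [hv, Finset.sum_const, Finset.card_univ, Nat.card_eq_fintype_card]
    rw [← Nat.cast_smul_eq_nsmul ℂ]
  have hStr : (∑ g : G, U g).trace = 0 := by
    rw [Matrix.trace_sum]
    simp only [hχU, hsum]
  have hUinv : ∀ g, (U g)ᴴ = U g⁻¹ := by
    intro g
    have h2 : U g * U g⁻¹ = 1 := by rw [← map_mul, mul_inv_cancel, map_one]
    calc (U g)ᴴ = (U g)ᴴ * (U g * U g⁻¹) := by rw [h2, Matrix.mul_one]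
      _ = U g⁻¹ := by rw [← Matrix.mul_assoc, hUu, Matrix.one_mul]
  have hSH : (∑ g : G, U g)ᴴ = ∑ g : G, U g := by
    rw [Matrix.conjTranspose_sum]
    simp only [hUinv]
    exact Fintype.sum_equiv (Equiv.inv G) _ _ (fun g => rfl)
  have hSS : (∑ g : G, U g) * (∑ g : G, U g) = (Nat.card G : ℂ) • ∑ g : G, U g := by
    rw [Finset.sum_mul]
    have h1 : ∀ g : G, U g * ∑ h : G, U h = ∑ h : G, U h := by
      intro g
      rw [Finset.mul_sum]
      simp only [← map_mul]
      exact Fintype.sum_equiv (Equiv.mulLeft g) _ _ (fun h => rfl)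
    simp only [h1, Finset.sum_const, Finset.card_univ, Nat.card_eq_fintype_card]
    rw [← Nat.cast_smul_eq_nsmul ℂ]
  have hfn : Lib.Helper74.Jordan.fn (∑ g : G, U g) = 0 := by
    have h := Lib.Helper74.Jordan.trace_conjTranspose_mul_self (∑ g : G, U g)
    rw [hSH, hSS, Matrix.trace_smul, hStr, smul_zero] at h
    exact_mod_cast h.symm
  have hS0 : (∑ g : G, U g) = 0 := Lib.Helper74.Jordan.fn_eq_zero.mp hfn
  rw [hS0, Matrix.zero_mulVec] at hSv
  exact (smul_eq_zero.mp hSv.symm).resolve_left hc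

end Cfsg.Agent.Lib.Helper62.BRA
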